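import Groth.Agent.VarDim.Fibre
import Groth.Agent.VarDim.IrredFibres
import Mathlib.RingTheory.Ideal.KrullsHeightTheorem

/-!
# The dimension of a nowhere dense zero locus of a function
-/

set_option autoImplicit false
set_option linter.style.haveILetI false
universe u

open AlgebraicGeometry CategoryTheory Order TopologicalSpace

namespace Groth.Agent.DimZeroLocus

/-- A prime minimal over `P ⊔ (g)` covers `P` if `g ∉ P`. -/
theorem eq_or_eq_of_minimal {A : Type u} [CommRing A] [IsNoetherianRing A] (P : Ideal A) [P.IsPrime] (g : A)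
    {Q : Ideal A} (hQ : Q ∈ (P ⊔ Ideal.span {g}).minimalPrimes) {R : Ideal A} [R.IsPrime]
    (hPR : P ≤ R) (hRQ : R ≤ Q) : R = P ∨ R = Q := by
  by_contra hne
  push Not at hne
  haveI := hQ.1.1
  let π := Ideal.Quotient.mk P
  have hker : RingHom.ker π ≤ R := Ideal.mk_ker.le.trans hPR
  have hkerQ : RingHom.ker π ≤ Q := hker.trans hRQ
  haveI hR' : (R.map π).IsPrime := Ideal.map_isPrime_of_surjective Ideal.Quotient.mk_surjective hker
  haveI hQ' : (Q.map π).IsPrime := Ideal.map_isPrime_of_surjective Ideal.Quotient.mk_surjective hkerQ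
  have hc : ∀ J : Ideal A, P ≤ J → (J.map π).comap π = J := fun J hJ => by
    rw [Ideal.comap_map_of_surjective π Ideal.Quotient.mk_surjective, sup_eq_left]
    exact Ideal.mk_ker.le.trans hJ
  have hmin : Q.map π ∈ (Ideal.span {π g}).minimalPrimes := by
    refine ⟨⟨hQ', ?_⟩, fun J hJ hJQ => ?_⟩
    · rw [← Set.image_singleton, ← Ideal.map_span]
      exact Ideal.map_mono (le_sup_right.trans hQ.1.2)
    · haveI := hJ.1
      refine Ideal.map_le_iff_le_comap.2 (hQ.2 ⟨Ideal.IsPrime.comap π, sup_le ?_ ?_⟩ ?_)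
      · exact Ideal.mk_ker.ge.trans (Ideal.ker_le_comap π)
      · rw [Ideal.span_singleton_le_iff_mem]
        exact Ideal.mem_comap.2 (hJ.2 (Ideal.mem_span_singleton_self _))
      · exact (Ideal.comap_mono hJQ).trans (hc Q (hPR.trans hRQ)).le
  haveI : (Ideal.span {π g}).IsPrincipal := ⟨⟨π g, rfl⟩⟩
  have h1 := Ideal.height_le_one_of_isPrincipal_of_mem_minimalPrimes _ _ hmin
  have hlt₁ : R.map π < Q.map π := lt_of_le_of_ne (Ideal.map_mono hRQ) fun e =>
    hne.2 (by rw [← hc R hPR, e, hc Q (hPR.trans hRQ)])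
  have hlt₀ : (⊥ : Ideal (A ⧸ P)) < R.map π := bot_lt_iff_ne_bot.2 fun e => hne.1 (by
    rw [← hc R hPR, e, ← RingHom.ker_eq_comap_bot, Ideal.mk_ker])
  haveI : (⊥ : Ideal (A ⧸ P)).IsPrime := Ideal.isPrime_bot
  have h2 := Ideal.height_add_one_le_of_lt_of_isPrime hlt₁
  have h3 := Ideal.height_add_one_le_of_lt_of_isPrime hlt₀
  have : (1 : ℕ∞) + 1 ≤ 1 := ((add_le_add ((le_add_self).trans h3) le_rfl).trans h2).trans h1
  exact absurd this (by decide)

variable {k : Type u} [Field k] {X : Scheme.{u}} (p : X ⟶ Spec (CommRingCat.of k)) [LocallyOfFiniteType p]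

open VarDim

include p in
theorem notMem_of_maximal {Y : Set X} (hY : IsClosed Y) (hint : interior Y = ∅) {η : X}
    (hη : ∀ y, y ⤳ η → y = η) : η ∉ Y := by
  intro hmem
  haveI := LocallyOfFiniteType.isLocallyNoetherian p
  obtain ⟨U, hU, hηU, -⟩ := exists_isAffineOpen_mem_and_subset (x := η) (U := ⊤) trivial
  haveI : NoetherianSpace (U : Scheme.{u}) :=
    haveI : IsAffine (U : Scheme.{u}) := hU
    haveI : IsNoetherian (U : Scheme.{u}) := ⟨⟩
    inferInstance
  let η' : (U : Scheme.{u}) := ⟨η, hηU⟩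
  have hmax : ∀ y, y ⤳ η' → y = η' := fun y hy => Subtype.ext (hη _ (hy.map U.ι.continuous))
  obtain ⟨o, ho, hne, hsub⟩ :=
    NoetherianSpace.exists_isOpen_nonempty_subset_irreducibleComponent _ (closure_mem_irreducibleComponents hmax)
  have hoY : U.ι '' o ⊆ Y := by
    rintro _ ⟨w, hw, rfl⟩
    exact ((specializes_iff_mem_closure.2 (hsub hw)).map U.ι.continuous).mem_closed hY hmem
  have := interior_maximal hoY (U.ι.isOpenEmbedding.isOpenMap o ho)
  rw [hint] at this
  obtain ⟨w, hw⟩ := hne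
  exact this ⟨w, hw, rfl⟩

include p in
theorem exists_deg_add_one (f : Γ(X, ⊤)) {η z : X} (h : η ⤳ z) (hz : z ∈ X.zeroLocus (U := ⊤) {f})
    (hη : η ∉ X.zeroLocus (U := ⊤) {f}) :
    ∃ y ∈ X.zeroLocus (U := ⊤) {f}, deg p y + 1 = deg p η := by
  haveI := LocallyOfFiniteType.isLocallyNoetherian p
  obtain ⟨U, hU, hzU, -⟩ := exists_isAffineOpen_mem_and_subset (x := z) (U := ⊤) trivial
  haveI : IsNoetherianRing Γ(X, U) := IsLocallyNoetherian.component_noetherian ⟨U, hU⟩
  obtain ⟨M, rfl⟩ := VarDim.exists_fromSpec_eq hU hzU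
  obtain ⟨P, rfl⟩ := VarDim.exists_fromSpec_eq hU (h.mem_open U.isOpen hzU)
  have hPM : P ≤ M := (fromSpec_specializes_iff hU P M).1 h
  let g : Γ(X, U) := X.presheaf.map (homOfLE le_top).op f
  have hiff : ∀ q, hU.fromSpec q ∈ X.zeroLocus (U := ⊤) {f} ↔ g ∈ q.asIdeal := fun q => by
    rw [Scheme.mem_zeroLocus_iff]
    have hb : X.basicOpen g = U ⊓ X.basicOpen f := X.basicOpen_res f _
    have : hU.fromSpec q ∈ X.basicOpen g ↔ g ∉ q.asIdeal := by
      show q ∈ hU.fromSpec ⁻¹ᵁ X.basicOpen g ↔ _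
      rw [hU.fromSpec_preimage_basicOpen]
      rfl
    rw [hb] at this
    have hqU : hU.fromSpec q ∈ U := fromSpec_mem hU q
    constructor
    · intro hall
      by_contra hg
      exact hall f rfl (this.2 hg).2
    · rintro hg _ rfl hmem
      exact this.1 ⟨hqU, hmem⟩ hg
  rw [hiff] at hz hη
  obtain ⟨Q, hQ, hQM⟩ := Ideal.exists_minimalPrimes_le
    (show P.asIdeal ⊔ Ideal.span {g} ≤ M.asIdeal from sup_le hPM (Ideal.span_singleton_le_iff_mem _ |>.2 hz))
  have hgQ : g ∈ Q := hQ.1.2 (Ideal.mem_sup_right (Ideal.mem_span_singleton_self _))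
  let q : PrimeSpectrum Γ(X, U) := ⟨Q, hQ.1.1⟩
  have hPq : P ≤ q := le_sup_left.trans hQ.1.2
  refine ⟨hU.fromSpec q, (hiff q).2 hgQ, (deg_of_immediate p (fun e => hη ?_)
    ((fromSpec_specializes_iff hU P q).2 hPq) fun y hy hyq => ?_).symm⟩
  · have hPq' : P = q := hU.fromSpec.isOpenEmbedding.injective e
    rwa [hPq']
  · obtain ⟨R, rfl⟩ := VarDim.exists_fromSpec_eq hU (hyq.mem_open U.isOpen (fromSpec_mem hU q))
    rw [fromSpec_specializes_iff] at hy hyq
    exact (eq_or_eq_of_minimal P.asIdeal g hQ hy hyq).imp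
      (fun e => congrArg hU.fromSpec (PrimeSpectrum.ext e)) (fun e => congrArg hU.fromSpec (PrimeSpectrum.ext e))

include p in
theorem dim_le (f : Γ(X, ⊤)) (hY : interior (X.zeroLocus (U := ⊤) {f}) = ∅) :
    topologicalKrullDim (X.zeroLocus (U := ⊤) {f}) + 1 ≤ topologicalKrullDim X := by
  have hc : IsClosed (X.zeroLocus (U := ⊤) {f}) := (X.zeroLocus_isClosed _)
  rcases isEmpty_or_nonempty (X.zeroLocus (U := ⊤) {f}) with he | hne
  · rw [topologicalKrullDim_set_eq_iSup_deg p hc, iSup_of_empty, WithBot.bot_add]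
    exact bot_le
  have key : ∀ y : X.zeroLocus (U := ⊤) {f},
      (((deg p y.1 + 1 : ℕ) : ℕ∞) : WithBot ℕ∞) ≤ topologicalKrullDim X := fun y => by
    obtain ⟨η, hη, hmax⟩ := exists_maximal_generalization p y.1
    have hη' := notMem_of_maximal p hc hY hmax
    have hlt : deg p y.1 < deg p η := lt_of_not_ge fun hle =>
      hη' ((eq_of_specializes_of_deg_le p hη hle) ▸ y.2)
    rw [topologicalKrullDim_eq_iSup_deg p]
    refine le_iSup_of_le η ?_
    exact_mod_cast (show deg p y.1 + 1 ≤ deg p η by omega)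
  obtain ⟨D, hD⟩ : ∃ D : ℕ∞, topologicalKrullDim X = (D : WithBot ℕ∞) := by
    obtain ⟨y⟩ := hne
    have h := key y
    rcases hd : topologicalKrullDim X with _ | D
    · rw [hd] at h; exact absurd (le_bot_iff.1 h) WithBot.coe_ne_bot
    · exact ⟨D, rfl⟩
  rw [hD] at key ⊢
  induction D with
  | top => exact le_top
  | coe d =>
    have hd : ∀ y : X.zeroLocus (U := ⊤) {f}, deg p y.1 + 1 ≤ d := fun y => by exact_mod_cast key y
    have : topologicalKrullDim (X.zeroLocus (U := ⊤) {f}) ≤ (((d - 1 : ℕ) : ℕ∞) : WithBot ℕ∞) := by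
      rw [topologicalKrullDim_set_eq_iSup_deg p hc]
      refine iSup_le fun y => ?_
      exact_mod_cast (show deg p y.1 ≤ d - 1 by have := hd y; omega)
    refine le_trans (add_le_add this le_rfl) ?_
    have := hd hne.some
    exact_mod_cast (show d - 1 + 1 ≤ d by omega)

include p in
theorem dim_eq (f : Γ(X, ⊤)) (hY : interior (X.zeroLocus (U := ⊤) {f}) = ∅) {Z : Set X}
    (hZ : Z ∈ irreducibleComponents X) (hZd : topologicalKrullDim Z = topologicalKrullDim X)
    (hZY : (Z ∩ X.zeroLocus (U := ⊤) {f}).Nonempty) :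
    topologicalKrullDim (X.zeroLocus (U := ⊤) {f}) + 1 = topologicalKrullDim X := by
  have hc : IsClosed (X.zeroLocus (U := ⊤) {f}) := (X.zeroLocus_isClosed _)
  refine le_antisymm (dim_le p f hY) ?_
  obtain ⟨η, hη, hmax⟩ := exists_generic_of_component hZ
  obtain ⟨z, hzZ, hzY⟩ := hZY
  rw [hη] at hzZ
  obtain ⟨y, hy, hdeg⟩ := exists_deg_add_one p f (specializes_iff_mem_closure.2 hzZ) hzY
    (notMem_of_maximal p hc hY hmax)
  rw [← hZd, hη, topologicalKrullDim_closure_singleton p, ← hdeg]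
  refine le_trans ?_ (add_le_add (show ((deg p y : ℕ∞) : WithBot ℕ∞) ≤ _ from ?_) le_rfl)
  · exact_mod_cast le_refl (deg p y + 1)
  · rw [topologicalKrullDim_set_eq_iSup_deg p hc]
    exact le_iSup_of_le ⟨y, hy⟩ le_rfl

end Groth.Agent.DimZeroLocus
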